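import Cfsg.Agent.Lib.Helper58.WrSyl.Defs
import Cfsg.Agent.Lib.Helper12.WrSyl.T2

set_option autoImplicit false

namespace Cfsg.Agent.Lib.Helper65.WrSyl

open Cfsg Cfsg.Agent.Lib.Helper58.WrSyl Cfsg.Agent.Lib.Helper12.WrSyl
open scoped MatrixGroups

theorem card_subgroup_prod {H K : Type*} [Group H] [Group K] (E1 : Subgroup H) (E2 : Subgroup K) :
    Nat.card (E1.prod E2) = Nat.card E1 * Nat.card E2 := by
  rw [Nat.card_congr (Subgroup.prodEquiv E1 E2).toEquiv, Nat.card_prod]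

theorem sylow_prod_equiv {X A : Type*} [Group X] [Group A] [Finite X] [Finite A] (p : ℕ)
    [Fact p.Prime] (T : Sylow p (X × A)) (T1 : Sylow p X) (T2 : Sylow p A) :
    Nonempty ((T : Subgroup (X × A)) ≃* (↥(T1 : Subgroup X) × ↥(T2 : Subgroup A))) := by
  have hc : Nat.card ((T1 : Subgroup X).prod (T2 : Subgroup A))
      = p ^ (Nat.card (X × A)).factorization p := by
    rw [card_subgroup_prod, Sylow.card_eq_multiplicity, Sylow.card_eq_multiplicity, Nat.card_prod,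
      Nat.factorization_mul Nat.card_pos.ne' Nat.card_pos.ne', Finsupp.add_apply, pow_add]
  exact ⟨(Sylow.equiv T (Sylow.ofCard _ hc)).trans (Subgroup.prodEquiv _ _)⟩

theorem isElementaryAbelian_prod {p : ℕ} {H K : Type*} [Group H] [Group K] {E1 : Subgroup H}
    {E2 : Subgroup K} (h1 : IsElementaryAbelian p E1) (h2 : IsElementaryAbelian p E2) :
    IsElementaryAbelian p (E1.prod E2) := by
  obtain ⟨c1, e1⟩ := h1
  obtain ⟨c2, e2⟩ := h2
  refine ⟨⟨⟨?_⟩⟩, ?_⟩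
  · rintro ⟨⟨x1, x2⟩, hx⟩ ⟨⟨y1, y2⟩, hy⟩
    obtain ⟨hx1, hx2⟩ := Subgroup.mem_prod.mp hx
    obtain ⟨hy1, hy2⟩ := Subgroup.mem_prod.mp hy
    apply Subtype.ext
    apply Prod.ext
    · exact congrArg Subtype.val (c1.is_comm.comm ⟨x1, hx1⟩ ⟨y1, hy1⟩)
    · exact congrArg Subtype.val (c2.is_comm.comm ⟨x2, hx2⟩ ⟨y2, hy2⟩)
  · rintro ⟨x1, x2⟩ hx
    obtain ⟨hx1, hx2⟩ := Subgroup.mem_prod.mp hx
    apply Prod.ext
    · exact e1 x1 hx1
    · exact e2 x2 hx2

theorem isElementaryAbelian_map_hom {p : ℕ} {H K : Type*} [Group H] [Group K] (f : H →* K)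
    {E : Subgroup H} (hE : IsElementaryAbelian p E) : IsElementaryAbelian p (E.map f) := by
  obtain ⟨h1, h2⟩ := hE
  refine ⟨Subgroup.map_isMulCommutative E f, ?_⟩
  rintro _ ⟨a, ha, rfl⟩
  rw [← map_pow, h2 a ha, map_one]

theorem hasNEA_prod_aux {p a b : ℕ} {H K : Type*} [Group H] [Group K] (hH : HasNEA p a H)
    (hK : HasNEA p b K) : HasNEA p (a + b) (H × K) := by
  obtain ⟨E1, n1, e1, c1⟩ := hH
  obtain ⟨E2, n2, e2, c2⟩ := hK
  refine ⟨E1.prod E2, Subgroup.prod_normal E1 E2, isElementaryAbelian_prod e1 e2, ?_⟩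
  rw [card_subgroup_prod, pow_add]
  exact Nat.mul_le_mul c1 c2

theorem neaLE_prod_aux {p a b : ℕ} {H K : Type*} [Group H] [Group K] [Finite H] [Finite K]
    (hH : NEAle p a H) (hK : NEAle p b K) : NEAle p (a + b) (H × K) := by
  intro E hn he
  have c1 := hH (E.map (MonoidHom.fst H K)) (hn.map _ Prod.fst_surjective)
    (isElementaryAbelian_map_hom _ he)
  have c2 := hK (E.map (MonoidHom.snd H K)) (hn.map _ Prod.snd_surjective)
    (isElementaryAbelian_map_hom _ he)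
  have hle : E ≤ (E.map (MonoidHom.fst H K)).prod (E.map (MonoidHom.snd H K)) := by
    intro x hx
    exact Subgroup.mem_prod.mpr ⟨⟨x, hx, rfl⟩, ⟨x, hx, rfl⟩⟩
  calc Nat.card E ≤ Nat.card ((E.map (MonoidHom.fst H K)).prod (E.map (MonoidHom.snd H K))) :=
        Subgroup.card_le_of_le hle
    _ = _ := card_subgroup_prod _ _
    _ ≤ p ^ a * p ^ b := Nat.mul_le_mul c1 c2
    _ = p ^ (a + b) := (pow_add _ _ _).symm

/-- [P1a] -/
theorem hasNEA_prod {X A : Type*} [Group X] [Group A] [Finite X] [Finite A] (p : ℕ) [Fact p.Prime]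
    (a b : ℕ) (hX : ∀ T : Sylow p X, HasNEA p a (T : Subgroup X))
    (hA : ∀ T : Sylow p A, HasNEA p b (T : Subgroup A)) (T : Sylow p (X × A)) :
    HasNEA p (a + b) (T : Subgroup (X × A)) := by
  obtain ⟨e⟩ := sylow_prod_equiv p T (default : Sylow p X) (default : Sylow p A)
  exact HasNEA.of_equiv e.symm (hasNEA_prod_aux (hX _) (hA _))

/-- [P1b] -/
theorem neaLE_prod {X A : Type*} [Group X] [Group A] [Finite X] [Finite A] (p : ℕ) [Fact p.Prime]
    (a b : ℕ) (hX : ∀ T : Sylow p X, NEAle p a (T : Subgroup X))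
    (hA : ∀ T : Sylow p A, NEAle p b (T : Subgroup A)) (T : Sylow p (X × A)) :
    NEAle p (a + b) (T : Subgroup (X × A)) := by
  obtain ⟨e⟩ := sylow_prod_equiv p T (default : Sylow p X) (default : Sylow p A)
  exact NEAle.of_equiv e.symm (neaLE_prod_aux (hX _) (hA _))

end Cfsg.Agent.Lib.Helper65.WrSyl
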