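import Cfsg.Agent.Lib.Helper58.WrSyl.Defs

set_option autoImplicit false

namespace Cfsg.Agent.Lib.Helper65.WrSyl

open Cfsg Cfsg.Agent.Lib.Helper58.WrSyl
open scoped MatrixGroups

/-- [T1] -/
theorem sylow_equiv {W G : Type*} [Group W] [Group G] [Finite G] (p : ℕ) [Fact p.Prime]
    (Φ : W →* G) (hΦ : Function.Injective Φ)
    (hval : (Nat.card G).factorization p = (Nat.card W).factorization p)
    (P : Sylow p G) (T : Sylow p W) : Nonempty ((P : Subgroup G) ≃* (T : Subgroup W)) := by
  haveI : Finite W := Finite.of_injective Φ hΦ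
  obtain ⟨P', hP'⟩ := (T.2.map Φ).exists_le_sylow
  have hcard : Nat.card ((T : Subgroup W).map Φ) = Nat.card (P' : Subgroup G) := by
    rw [Subgroup.card_map_of_injective hΦ, Sylow.card_eq_multiplicity, Sylow.card_eq_multiplicity,
      hval]
  have heq : (T : Subgroup W).map Φ = (P' : Subgroup G) :=
    Subgroup.eq_of_le_of_card_ge hP' hcard.ge
  exact ⟨(Sylow.equiv P P').trans ((MulEquiv.subgroupCongr heq.symm).trans
    ((T : Subgroup W).equivMapOfInjective Φ hΦ).symm)⟩

end Cfsg.Agent.Lib.Helper65.WrSyl
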