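import Cfsg.Agent.Lib.Helper58.WrSyl.Defs
import Cfsg.Prelude.Def_CaseTheorems
import Cfsg.Agent.Lib.Helper37.CommInvol

set_option autoImplicit false

namespace Cfsg.Agent.Lib.Helper65.WrSyl

open Cfsg Cfsg.Agent.Lib.Helper58.WrSyl Cfsg.Agent.Lib.Helper37
open scoped MatrixGroups

theorem two_ne_zero_of_odd_card {F : Type*} [Field F] [Fintype F] (hF : Odd (Fintype.card F)) :
    (2 : F) ≠ 0 := by
  intro h
  have hc : ringChar F = 2 := by
    have : ringChar F ∣ 2 := by
      apply ringChar.dvd
      exact_mod_cast h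
    rcases (Nat.dvd_prime Nat.prime_two).1 this with h1 | h1
    · exact absurd h1 (CharP.ringChar_ne_one)
    · exact h1
  have := FiniteField.even_card_of_char_two hc
  exact (Nat.not_even_iff_odd.2 hF) (Nat.even_iff.2 this)

/-- [U1] -/
theorem pRankLE_gl {F : Type*} [Field F] [Fintype F] (hF : Odd (Fintype.card F)) (n : ℕ) :
    PRankLE 2 n (GL (Fin n) F) := by
  intro A hA hA2
  have h2 := two_ne_zero_of_odd_card hF
  let φ : GL (Fin n) F → Module.End F (Fin n → F) :=
    fun a => Matrix.toLin' (a : Matrix (Fin n) (Fin n) F)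
  have hφmul : ∀ a b, φ (a * b) = φ a * φ b := fun a b => by
    simp [φ, Matrix.toLin'_mul, Module.End.mul_eq_comp]
  have hφone : φ 1 = 1 := by
    simp [φ, Module.End.one_eq_id]
  have hφinj : Function.Injective φ := by
    intro a b hab
    apply Units.ext
    exact Matrix.toLin'.injective hab
  have key := ncard_le_two_pow h2 (φ '' (A : Set _)) (Set.toFinite _)
    (by
      rintro _ ⟨a, ha, rfl⟩ _ ⟨b, hb, rfl⟩
      rw [← hφmul, ← hφmul]
      congr 1
      have := hA.is_comm.comm ⟨a, ha⟩ ⟨b, hb⟩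
      exact congrArg Subtype.val this)
    (by
      rintro _ ⟨a, ha, rfl⟩
      rw [← hφmul, ← pow_two, hA2 a ha, hφone])
  rw [Set.ncard_image_of_injective _ hφinj, Module.finrank_fin_fun] at key
  rw [← Nat.card_coe_set_eq] at key
  exact key

end Cfsg.Agent.Lib.Helper65.WrSyl
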